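import Groth.Agent.RigPt7.Base
import Groth.Agent.S2089
import Groth.Agent.RefX.Normal
import Groth.Agent.H23.CartierFlatDescAlg
import Groth.Agent.NormCurve.Nagata
import Groth.Agent.CompleteNagata.Complete
import Groth.Agent.FormCat.HenselDomain
import Groth.Agent.EGA41Lib.IntDim
import Groth.Agent.Hensel.Local
import Groth.Agent.Adic7.Basic
import Mathlib

/-!
# Components of dimension at least two and flat local maps of complete local rings
-/

set_option autoImplicit false
set_option linter.style.haveILetI false

universe u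

open IsLocalRing TensorProduct

namespace Groth.Agent.C2Flat

/-- The normalisation of a complete local domain of dimension at least two. -/
theorem exists_normalization (A : Type u) [CommRing A] [IsDomain A] [IsNoetherianRing A] [IsLocalRing A]
    [IsAdicComplete (maximalIdeal A) A] (hdim : (2 : WithBot ℕ∞) ≤ ringKrullDim A) :
    ∃ (C : Type u) (_ : CommRing C) (_ : IsDomain C) (_ : Algebra A C) (_ : IsLocalRing C)
      (_ : IsNoetherianRing C),
      Module.Finite A C ∧ Function.Injective (algebraMap A C) ∧ (2 : ℕ∞) ≤ LocCoh.depth C C := by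
  haveI : HenselianLocalRing A := Hensel.henselianLocalRing_of_henselianRing A
  let C := integralClosure A (FractionRing A)
  haveI hfin : Module.Finite A C :=
    NormCurve.finite_integralClosure_of_nagata (CompleteNagata.isNagata_of_complete A) (FractionRing A)
  haveI : IsLocalRing C := FormCat.isLocalRing_of_finite_domain A C
  haveI : IsNoetherianRing C := Algebra.FiniteType.isNoetherianRing A C
  haveI : IsFractionRing C (FractionRing A) :=
    integralClosure.isFractionRing_of_finite_extension (FractionRing A) (FractionRing A)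
  haveI : IsIntegrallyClosed C := integralClosure.isIntegrallyClosedOfFiniteExtension (FractionRing A)
  have hinj : Function.Injective (algebraMap A C) := fun a b h =>
    IsFractionRing.injective A (FractionRing A) (congrArg Subtype.val h)
  refine ⟨C, inferInstance, inferInstance, inferInstance, inferInstance, inferInstance, hfin, hinj,
    RefX.two_le_depth_of_normal C ?_⟩
  rwa [EGA41Lib.ringKrullDim_eq_of_integral hinj]

/-- The core statement. -/
theorem two_le_dim_component (A B : Type u) [CommRing A] [CommRing B] [IsNoetherianRing A] [IsNoetherianRing B]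
    [IsLocalRing A] [IsLocalRing B] [IsAdicComplete (maximalIdeal A) A] [Algebra A B] [Module.Flat A B]
    [IsLocalHom (algebraMap A B)]
    (hA : ∀ p ∈ minimalPrimes A, (2 : WithBot ℕ∞) ≤ ringKrullDim (A ⧸ p)) (q : Ideal B) (hq : q ∈ minimalPrimes B) :
    (2 : WithBot ℕ∞) ≤ ringKrullDim (B ⧸ q) := by
  haveI : q.IsPrime := hq.1.1
  let p : Ideal A := q.comap (algebraMap A B)
  have hp : p ∈ minimalPrimes A := by
    refine ⟨⟨inferInstance, bot_le⟩, fun r hr hrp => ?_⟩
    by_contra hne
    haveI : r.IsPrime := hr.1
    haveI : q.LiesOver p := ⟨rfl⟩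
    obtain ⟨Q, hQq, hQprime, hQ⟩ := Ideal.exists_ideal_lt_liesOver_of_lt (p := r) q
      (lt_of_le_of_ne hrp fun h => hne h.ge)
    exact hQq.not_ge (hq.2 ⟨hQprime, bot_le⟩ hQq.le)
  haveI : IsLocalRing (A ⧸ p) := IsLocalRing.of_surjective' (Ideal.Quotient.mk p) Ideal.Quotient.mk_surjective
  haveI : IsAdicComplete (maximalIdeal A) (A ⧸ p) := Adic7.isAdicComplete_of_finite _ _
  haveI : IsAdicComplete (maximalIdeal (A ⧸ p)) (A ⧸ p) := by
    rw [← IsLocalRing.map_maximalIdeal_of_surjective _ (Ideal.Quotient.mk_surjective (I := p))]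
    exact (IsAdicComplete.map_algebraMap_iff (I := maximalIdeal A) (S := A ⧸ p) (M := A ⧸ p)).2 inferInstance
  obtain ⟨C, _, _, _, _, _, hfin, hinj, hdepth⟩ := exists_normalization (A ⧸ p) (hA p hp)
  letI : Algebra A C := ((algebraMap (A ⧸ p) C).comp (algebraMap A (A ⧸ p))).toAlgebra
  haveI : IsScalarTower A (A ⧸ p) C := IsScalarTower.of_algebraMap_eq fun _ => rfl
  haveI : Module.Finite A C := Module.Finite.trans (A ⧸ p) C
  haveI : IsLocalHom (algebraMap A C) := by
    refine ⟨fun a ha => ?_⟩
    by_contra hna
    haveI : Algebra.IsIntegral A C := Algebra.IsIntegral.of_finite A C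
    have hmax := Ideal.isMaximal_comap_of_isIntegral_of_isMaximal (R := A) (maximalIdeal C)
    have hmem : a ∈ (maximalIdeal C).comap (algebraMap A C) :=
      (IsLocalRing.eq_maximalIdeal hmax).ge ((IsLocalRing.mem_maximalIdeal a).2 hna)
    exact (IsLocalRing.mem_maximalIdeal _).1 hmem ha
  let E := B ⊗[A] C
  haveI : Module.Finite B E := Module.Finite.base_change A B C
  haveI : Algebra.IsIntegral B E := Algebra.IsIntegral.of_finite B E
  haveI : IsNoetherianRing E := Algebra.FiniteType.isNoetherianRing B E
  letI : Algebra C E := Algebra.TensorProduct.rightAlgebra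
  haveI : Module.Flat C E := Module.Flat.of_linearEquiv
    (Algebra.TensorProduct.commRight A C B).symm.toLinearEquiv
  -- the kernel of `B → E` lies in `q`
  have hker : RingHom.ker (algebraMap B E) ≤ q := by
    intro b hb
    have hinjQ : Function.Injective ((IsScalarTower.toAlgHom A (A ⧸ p) C).toLinearMap.lTensor B) :=
      Module.Flat.lTensor_preserves_injective_linearMap _ hinj
    have h0 : b ⊗ₜ[A] (1 : A ⧸ p) = 0 := by
      refine hinjQ ?_
      rw [map_zero, LinearMap.lTensor_tmul, AlgHom.toLinearMap_apply, map_one]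
      exact hb
    have h1 := congrArg (TensorProduct.tensorQuotEquivQuotSMul B p) h0
    rw [map_zero] at h1
    erw [TensorProduct.tensorQuotEquivQuotSMul_tmul_mk] at h1
    rw [one_smul, Submodule.Quotient.mk_eq_zero, Ideal.smul_top_eq_map] at h1
    exact Ideal.map_comap_le h1
  obtain ⟨q', -, hq'prime, hq'⟩ := Ideal.exists_ideal_over_prime_of_isIntegral (S := E) q ⊥
    (by rw [← RingHom.ker_eq_comap_bot]; exact hker)
  have hq'min : q' ∈ minimalPrimes E := by
    refine ⟨⟨hq'prime, bot_le⟩, fun r hr hrq => ?_⟩
    by_contra hne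
    haveI : r.IsPrime := hr.1
    have hlt := Ideal.IsIntegral.comap_lt_comap (R := B) (I := r) (lt_of_le_of_ne hrq fun h => hne h.ge)
    rw [hq'] at hlt
    exact hlt.not_ge (hq.2 ⟨Ideal.comap_isPrime _ r, bot_le⟩ hlt.le)
  obtain ⟨n, hn, hq'n⟩ := Ideal.exists_le_maximal q' hq'prime.ne_top
  let D := Localization.AtPrime n
  have hnB : n.comap (algebraMap B E) = maximalIdeal B :=
    IsLocalRing.eq_maximalIdeal (Ideal.isMaximal_comap_of_isIntegral_of_isMaximal n)
  have hnA : ∀ a : A, a ∈ maximalIdeal A → algebraMap A E a ∈ n := fun a ha => by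
    rw [IsScalarTower.algebraMap_apply A B E, ← Ideal.mem_comap, hnB]
    exact map_nonunit _ a ha
  have hnC : n.comap (algebraMap C E) = maximalIdeal C := by
    haveI : Algebra.IsIntegral A C := Algebra.IsIntegral.of_finite A C
    haveI : IsScalarTower A C E := IsScalarTower.of_algebraMap_eq fun a => by
      show algebraMap A E a = (1 : B) ⊗ₜ[A] algebraMap A C a
      rw [Algebra.TensorProduct.algebraMap_apply, Algebra.algebraMap_eq_smul_one, Algebra.algebraMap_eq_smul_one]
      exact TensorProduct.smul_tmul a 1 1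
    refine IsLocalRing.eq_maximalIdeal (Ideal.isMaximal_of_isIntegral_of_isMaximal_comap (R := A) _ ?_)
    rw [Ideal.comap_comap, ← IsScalarTower.algebraMap_eq]
    have : (n.comap (algebraMap A E)) = maximalIdeal A := le_antisymm
      (IsLocalRing.le_maximalIdeal (Ideal.IsPrime.ne_top inferInstance)) hnA
    rw [this]
    exact IsLocalRing.maximalIdeal.isMaximal A
  haveI : Module.Flat C D := Module.Flat.trans C E D
  haveI : IsLocalHom (algebraMap C D) := ⟨fun c hc => by
    by_contra hnc
    have hc' : c ∈ n.comap (algebraMap C E) := hnC.ge hnc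
    rw [IsScalarTower.algebraMap_apply C E D] at hc
    exact (IsLocalRing.mem_maximalIdeal _).1
      ((IsLocalization.AtPrime.to_map_mem_maximal_iff D n _).2 hc') hc⟩
  have hD : (2 : ℕ∞) ≤ LocCoh.depth D D := H23.CartierFlatDescAlg.two_le_depth_of_flat hdepth
  let Q : Ideal D := q'.map (algebraMap E D)
  have hdisj : Disjoint (n.primeCompl : Set E) (q' : Set E) := Set.disjoint_left.2 fun x hx hx' => hx (hq'n hx')
  haveI hQprime : Q.IsPrime := IsLocalization.isPrime_of_isPrime_disjoint n.primeCompl D q' hq'prime hdisj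
  have hQc : Q.comap (algebraMap E D) = q' :=
    IsLocalization.comap_map_of_isPrime_disjoint n.primeCompl D hq'prime hdisj
  have hQmin : Q ∈ minimalPrimes D := by
    refine ⟨⟨hQprime, bot_le⟩, fun r hr hrQ => ?_⟩
    haveI : r.IsPrime := hr.1
    have h1 : q' ≤ r.comap (algebraMap E D) :=
      hq'min.2 ⟨Ideal.comap_isPrime _ r, bot_le⟩ ((Ideal.comap_mono hrQ).trans hQc.le)
    exact Ideal.map_le_iff_le_comap.2 h1
  have hQass : Q ∈ associatedPrimes D D := by
    refine Module.associatedPrimes.minimalPrimes_annihilator_subset_associatedPrimes D D ?_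
    rw [Module.annihilator_eq_bot.2 inferInstance]
    exact hQmin
  have h2 := S2089.result (R := D) (M := D) Q hQass
  have h3 : ringKrullDim (D ⧸ Q) ≤ ringKrullDim (E ⧸ q') := by
    haveI : IsLocalization (Algebra.algebraMapSubmonoid (E ⧸ q') n.primeCompl) (D ⧸ Q) := inferInstance
    exact Order.krullDim_le_of_strictMono (PrimeSpectrum.comap (algebraMap (E ⧸ q') (D ⧸ Q)))
      fun a b hab => lt_of_le_of_ne (Ideal.comap_mono hab.le) fun heq => hab.ne
        (PrimeSpectrum.localization_comap_injective (D ⧸ Q) (Algebra.algebraMapSubmonoid (E ⧸ q') n.primeCompl) heq)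
  have h4 : ringKrullDim (E ⧸ q') = ringKrullDim (B ⧸ q) := by
    haveI : q'.LiesOver q := ⟨hq'.symm⟩
    refine EGA41Lib.ringKrullDim_eq_of_integral ?_
    exact FaithfulSMul.algebraMap_injective _ _
  rw [← h4]
  refine le_trans ?_ (h2.trans h3)
  exact WithBot.coe_le_coe.2 hD

/-- The completion of a flat local homomorphism is flat. -/
theorem flat_complMap_local {T T' : Type u} [CommRing T] [CommRing T'] [IsNoetherianRing T] [IsNoetherianRing T']
    [IsLocalRing T'] (g : T →+* T') (hg : g.Flat) (J : Ideal T) (h : J.map g ≤ maximalIdeal T') :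
    (FSch.complMap J (maximalIdeal T') g h).Flat := by
  let B := AdicCompletion J T
  let R := AdicCompletion (maximalIdeal T') T'
  have : IsNoetherianRing B := FComplLib.isNoetherianRing_adicCompletion _
  have : IsNoetherianRing R := FComplLib.isNoetherianRing_adicCompletion _
  let φ := FSch.complMap J (maximalIdeal T') g h
  have hφ : ∀ t, φ (algebraMap T B t) = algebraMap T' R (g t) := FComplLib.complMap_algebraMap J _ g h
  letI : Algebra B R := φ.toAlgebra
  letI : Algebra T R := ((algebraMap T' R).comp g).toAlgebra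
  haveI : IsScalarTower T B R := IsScalarTower.of_algebraMap_eq fun t => (hφ t).symm
  haveI : Module.Flat T R := RingHom.Flat.comp hg (RingHom.flat_algebraMap_iff.mpr inferInstance)
  show Module.Flat B R
  refine LocalCrit.flat_of_forall_quotient_pow (B := R) (J.map (algebraMap T B)) ?_ fun n => ?_
  · refine le_trans ?_ (IsLocalRing.maximalIdeal_le_jacobson (⊥ : Ideal R))
    rw [AdicCompletion.maximalIdeal_eq_map]
    refine le_trans (le_of_eq ?_) (Ideal.map_mono h)
    rw [Ideal.map_map, Ideal.map_map, ← IsScalarTower.algebraMap_eq]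
    rfl
  · rw [← Ideal.map_pow]
    refine RigPt7.keepsInjective_of_surjective_mod (A := T) (J ^ n) fun r => ?_
    exact RigPt7.exists_sub_mem_pow J (IsNoetherian.noetherian _) r n

end Groth.Agent.C2Flat
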